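import Groth.Agent.CoprimaryLib.Family
import Groth.Agent.IdealMulLib.Killed
import Groth.Agent.PullbackMod.SuppClosed
import Groth.Agent.PullbackMod.OpenLocus
import Groth.Agent.DevLib.Power
import Groth.Agent.S10948
import Groth.Agent.S0816

/-!
# Lifting maps of generic stalks after multiplying by a power of an ideal
-/

set_option autoImplicit false
set_option backward.isDefEq.respectTransparency false
set_option linter.style.haveILetI false
set_option maxHeartbeats 800000

universe u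

open CategoryTheory CategoryTheory.Limits AlgebraicGeometry TopologicalSpace Opposite
open Groth.Agent.PullbackMod

noncomputable section

namespace Groth.Agent.GenHomLib

variable {Y : Scheme.{u}} [IsIntegral Y] [AlgebraicGeometry.IsNoetherian Y]

theorem finite_ass {B : Y.Modules} (hB : Coh.IsCoh B) : {x : Y | Curv2.IsAssPoint B x}.Finite := by
  classical
  have hc : ∀ x : Y, ∃ W : Y.Opens, IsAffineOpen W ∧ x ∈ W := fun x => by
    obtain ⟨W, hW, hx, -⟩ := AssLib.exists_affine_mem x (U := ⊤) trivial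
    exact ⟨W, hW, hx⟩
  choose W hW hxW using hc
  obtain ⟨t, ht⟩ := isCompact_univ.elim_finite_subcover (fun x => (W x : Set Y)) (fun x => (W x).2)
    fun x _ => Set.mem_iUnion.2 ⟨x, hxW x⟩
  refine (t.finite_toSet.biUnion fun x _ => AssLib.finite_ass_affine hB (hW x)).subset fun x hx => ?_
  obtain ⟨i, hi, hxi⟩ := Set.mem_iUnion₂.1 (ht (Set.mem_univ x))
  exact Set.mem_iUnion₂.2 ⟨i, hi, hxi, hx⟩

/-- A coherent module has a coherent submodule inside its generic stalk with full generic stalk. -/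
theorem exists_sub_sky {B : Y.Modules} (hB : Coh.IsCoh B) :
    ∃ (B' : Y.Modules) (j : B' ⟶ B) (τ : B' ⟶ sky (genericPoint Y) (B.presheaf.stalk (genericPoint Y))),
      Coh.IsCoh B' ∧ Mono τ ∧ τ = j ≫ toSky LinearMap.id ∧
        Function.Surjective (stalkLin τ (genericPoint Y)) := by
  classical
  set η := genericPoint Y
  haveI := hB.1
  let C : Set Y := ⋃ x ∈ {x : Y | Curv2.IsAssPoint B x ∧ x ≠ η}, closure {x}
  have hC : IsClosed C :=
    ((finite_ass hB).subset fun x hx => hx.1).isClosed_biUnion fun x _ => isClosed_closure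
  have hηC : η ∉ C := by
    intro h
    obtain ⟨x, hx, hxη⟩ := Set.mem_iUnion₂.1 h
    exact hx.2 ((specializes_iff_mem_closure.2 hxη).antisymm (genericPoint_specializes x)).eq
  let U : Y.Opens := ⟨Cᶜ, hC.isOpen_compl⟩
  obtain ⟨B', j, hj, hB', hbij, htf⟩ := CoprimaryLib.exists_sub_tf hB U
  haveI := hB'.1
  let τ : B' ⟶ sky η (B.presheaf.stalk η) := j ≫ toSky LinearMap.id
  have hτ : ∀ (V : Y.Opens) (s : Γ(B', V)) (h : η ∈ V),
      (show SkyObj η (B.presheaf.stalk η) V from τ.app V s) ⟨h⟩ = B.presheaf.germ V η h (j.app V s) :=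
    fun _ _ _ => rfl
  refine ⟨B', j, τ, hB', S0816.mono_of_sections τ fun V s hs => htf V s ?_, rfl, fun z => ?_⟩
  · by_contra hne
    obtain ⟨x, hx, hass, hgx, -⟩ := CoprimaryLib.exists_ass_germ_torsion hB _ hne
    by_cases hxη : x = η
    · subst hxη
      refine hgx ((TopCat.Presheaf.germ_res_apply B.presheaf _ _ hx _).trans ?_)
      rw [← hτ V s hx.1, hs]
      rfl
    · exact hx.2 (Set.mem_iUnion₂.2 ⟨x, ⟨hass, hxη⟩, subset_closure rfl⟩)
  · obtain ⟨W, hW, σ, rfl⟩ := TopCat.Presheaf.exists_germ_eq (sky η (B.presheaf.stalk η)).presheaf z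
    obtain ⟨O, hO, b, hb⟩ := TopCat.Presheaf.exists_germ_eq B.presheaf
      ((show SkyObj η (B.presheaf.stalk η) W from σ) ⟨hW⟩)
    let V := W ⊓ O ⊓ U
    have hV : η ∈ V := ⟨⟨hW, hO⟩, hηC⟩
    obtain ⟨b', hb'⟩ := (hbij V inf_le_right).2 (B.presheaf.map (homOfLE (inf_le_left.trans inf_le_right : V ≤ O)).op b)
    refine ⟨B'.presheaf.germ V η hV b', ?_⟩
    rw [stalkLin_germ, ← TopCat.Presheaf.germ_res_apply (sky η (B.presheaf.stalk η)).presheaf
      (homOfLE (inf_le_left.trans inf_le_left : V ≤ W)) η hV σ]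
    refine congrArg _ (funext fun h => ?_)
    refine (hτ V b' h.down).trans ?_
    rw [hb']
    exact (TopCat.Presheaf.germ_res_apply B.presheaf _ _ h.down b).trans hb

/-- Maps of generic stalks are induced by maps of modules after multiplying by a power of an ideal. -/
theorem exists_ideal_lift {A B : Y.Modules} (hA : Coh.IsCoh A) (hB : Coh.IsCoh B) {ι : Type} [Fintype ι]
    (T : ι → (A.presheaf.stalk (genericPoint Y) →ₗ[Y.presheaf.stalk (genericPoint Y)]
      B.presheaf.stalk (genericPoint Y))) :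
    ∃ (I : Y.IdealSheafData) (k : ℕ), genericPoint Y ∉ I.support ∧
      ∀ (C : Y.Modules), Coh.IsQCoh C → ∀ (γ : C ⟶ A),
        (∀ (W : Y.Opens) (hW : IsAffineOpen W) (t : Γ(C, W)),
          γ.app W t ∈ I.ideal ⟨W, hW⟩ ^ k • (⊤ : Submodule Γ(Y, W) Γ(A, W))) →
        ∀ i, ∃ β : C ⟶ B, ∀ z, stalkLin β (genericPoint Y) z = T i (stalkLin γ (genericPoint Y) z) := by
  classical
  set η := genericPoint Y
  haveI := hA.1
  obtain ⟨B', j, τ, hB', hτm, hτdef, hτs⟩ := exists_sub_sky hB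
  haveI := hτm
  haveI := hB'.1
  haveI : Coh.IsQCoh (sky η (B.presheaf.stalk η)) := S10948.isQCoh_sky_genericPoint _
  haveI hQ : Coh.IsQCoh (cokernel τ) := (QCohLib.isQCoh_image τ inferInstance inferInstance).2
  let g : ι → (A ⟶ cokernel τ) := fun i => toSky (T i) ≫ cokernel.π τ
  have hgη : ∀ i, stalkLin (g i) η = 0 := fun i => by
    haveI := DevLib.subsingleton_coker τ hτs
    exact LinearMap.ext fun z => Subsingleton.elim _ _
  have hcoim : ∀ i, Coh.IsCoh (Abelian.coimage (g i)) := fun i =>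
    (QCohLib.isCoh_kernel_cokernel (kernel.ι (g i))
      (QCohLib.isCoh_of_mono (kernel.ι (g i)) hA (QCohLib.isQCoh_image (g i) hA.1 hQ).1) hA).2
  let Z : Set Y := ⋃ i, CohB1.support (Abelian.coimage (g i))
  have hZ : IsClosed Z := isClosed_iUnion_of_finite fun i => isClosed_support_of_isFT (hcoim i).2
  have hηZ : η ∉ Z := by
    intro h
    obtain ⟨i, hi⟩ := Set.mem_iUnion.1 h
    haveI : Subsingleton ((Abelian.coimage (g i)).presheaf.stalk η) := by
      refine subsingleton_of_forall_eq 0 fun z => ?_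
      obtain ⟨a, rfl⟩ := (epi_iff_stalk (Abelian.coimage.π (g i))).1 inferInstance η z
      refine (mono_iff_stalk (Abelian.factorThruCoimage (g i))).1 inferInstance η ?_
      rw [map_zero, ← LinearMap.comp_apply, ← stalkLin_comp, Abelian.coimage.fac, hgη i]
      rfl
    exact hi inferInstance
  let I := Scheme.IdealSheafData.vanishingIdeal ⟨Z, hZ⟩
  have hsupp : (I.support : Set Y) = Z := by simp [I]
  have hgU : ∀ i, (Scheme.Modules.restrictFunctor (Scheme.Opens.ι (⟨Zᶜ, hZ.isOpen_compl⟩ : Y.Opens))).map (g i) = 0 := by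
    intro i
    rw [ExtShLib.restrict_map_eq_zero_iff]
    intro y hy
    haveI : Subsingleton ((Abelian.coimage (g i)).presheaf.stalk y) :=
      not_not.1 fun h => hy (Set.mem_iUnion.2 ⟨i, h⟩)
    refine LinearMap.ext fun z => ?_
    rw [← Abelian.coimage.fac (g i), stalkLin_comp, LinearMap.comp_apply,
      Subsingleton.elim (stalkLin (Abelian.coimage.π (g i)) y z) 0, map_zero]
    rfl
  have hc : ∀ x : Y, ∃ W : Y.Opens, IsAffineOpen W ∧ x ∈ W := fun x => by
    obtain ⟨W, hW, hx, -⟩ := AssLib.exists_affine_mem x (U := ⊤) trivial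
    exact ⟨W, hW, hx⟩
  choose W hW hxW using hc
  obtain ⟨t, ht⟩ := isCompact_univ.elim_finite_subcover (fun x => (W x : Set Y)) (fun x => (W x).2)
    fun x _ => Set.mem_iUnion.2 ⟨x, hxW x⟩
  have hk : ∀ (i : ι) (x : Y), ∃ k : ℕ, ∀ s ∈ I.ideal ⟨W x, hW x⟩ ^ k • (⊤ : Submodule Γ(Y, W x) Γ(A, W x)),
      (g i).app (W x) s = 0 :=
    fun i x => IdealMulLib.exists_pow_app_eq_zero hA I ⟨Zᶜ, hZ.isOpen_compl⟩ (by rw [hsupp]; rfl) (g i) (hgU i) (hW x)
  choose k hk using hk
  refine ⟨I, t.sup fun x => Finset.univ.sup fun i => k i x, fun h => hηZ (hsupp.le h), fun C hC γ hγ i => ?_⟩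
  haveI := hC
  have h0 : γ ≫ g i = 0 := by
    refine IdealMulLib.eq_zero_of_cover _ fun y => ?_
    obtain ⟨x, hxt, hyx⟩ := Set.mem_iUnion₂.1 (ht (Set.mem_univ y))
    refine ⟨W x, hW x, hyx, fun s => hk i x _ ?_⟩
    refine Submodule.smul_mono_left (Ideal.pow_le_pow_right ?_) (hγ (W x) (hW x) s)
    exact le_trans (Finset.le_sup (f := fun i => k i x) (Finset.mem_univ i))
      (Finset.le_sup (f := fun x => Finset.univ.sup fun i => k i x) hxt)
  have h1 : (γ ≫ toSky (T i)) ≫ cokernel.π τ = 0 := by rw [Category.assoc]; exact h0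
  refine ⟨Abelian.monoLift τ _ h1 ≫ j, fun z => ?_⟩
  obtain ⟨V, hV, s, rfl⟩ := TopCat.Presheaf.exists_germ_eq C.presheaf z
  rw [stalkLin_germ, stalkLin_germ]
  have h2 : (Abelian.monoLift τ _ h1 ≫ j) ≫ toSky LinearMap.id = γ ≫ toSky (T i) := by
    rw [Category.assoc, ← hτdef, Abelian.monoLift_comp]
  exact congrFun congr($(h2).app V s) ⟨hV⟩

/-- Iterated multiplication by an ideal. -/
theorem exists_idealPow {X : Scheme.{u}} [IsLocallyNoetherian X] {G₀ : X.Modules} (hG : Coh.IsCoh G₀)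
    (I : X.IdealSheafData) {ξ : X} (hξ : ξ ∉ I.support) :
    ∀ k : ℕ, ∃ (G : X.Modules) (i : G ⟶ G₀), Mono i ∧ Coh.IsCoh G ∧ Function.Surjective (stalkLin i ξ) ∧
      ∀ (W : X.Opens) (hW : IsAffineOpen W) (s : Γ(G, W)),
        i.app W s ∈ I.ideal ⟨W, hW⟩ ^ k • (⊤ : Submodule Γ(X, W) Γ(G₀, W)) := by
  intro k
  induction k with
  | zero =>
    refine ⟨G₀, 𝟙 _, inferInstance, hG, fun z => ?_, fun W hW s => ?_⟩
    · obtain ⟨V, hV, s, rfl⟩ := TopCat.Presheaf.exists_germ_eq G₀.presheaf z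
      exact ⟨_, stalkLin_germ (𝟙 G₀) ξ hV s⟩
    · rw [pow_zero, Ideal.one_eq_top, Submodule.top_smul]; exact Submodule.mem_top
  | succ k ih =>
    obtain ⟨G, i, hi, hGc, his, hir⟩ := ih
    haveI := hi
    haveI := hGc.1
    haveI : Mono (Dual3.idealMulι I G) := by unfold Dual3.idealMulι; infer_instance
    refine ⟨(Dual3.idealMul I).obj G, Dual3.idealMulι I G ≫ i, inferInstance,
      QCohLib.isCoh_of_mono (Dual3.idealMulι I G) hGc (IdealMulLib.isQCoh_idealMul I G), ?_, fun W hW s => ?_⟩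
    · rw [stalkLin_comp, LinearMap.coe_comp]
      refine his.comp (LinearMap.range_eq_top.1 ?_)
      rw [IdealMulLib.range_stalk_idealMulι, IdealMulLib.stalkIdeal_eq_top I hξ, Submodule.top_smul]
    · have h := (IdealMulLib.range_app_idealMulι I G hW ((Dual3.idealMulι I G).app W s)).1 ⟨s, rfl⟩
      show i.app W ((Dual3.idealMulι I G).app W s) ∈ _
      refine Submodule.smul_induction_on (p := fun m => i.app W m ∈ I.ideal ⟨W, hW⟩ ^ (k + 1) • (⊤ : Submodule Γ(X, W) Γ(G₀, W)))
        h (fun a ha m _ => ?_) fun p q hp hq => by rw [map_add]; exact add_mem hp hq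
      rw [Scheme.Modules.Hom.app_smul, pow_succ', Submodule.mul_smul]
      exact Submodule.smul_mem_smul ha (hir W hW m)

end Groth.Agent.GenHomLib
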